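import Mathlib

/-!
# Stein factorisation of a universally closed quasi-separated morphism
-/

set_option autoImplicit false
set_option backward.isDefEq.respectTransparency false
universe u

open CategoryTheory AlgebraicGeometry TopologicalSpace Opposite

namespace Groth.Agent.FlatMorStein

variable {X Y : Scheme.{u}} (f : X ⟶ Y) [UniversallyClosed f] [QuasiSeparated f]

/-- All sections over the preimage of an affine are integral over it. -/
theorem isIntegral_app_of_universallyClosed {U : Y.Opens} (hU : IsAffineOpen U) :
    (f.app U).hom.IsIntegral :=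
  by
  have : IsAffine U.toScheme := hU
  have key : ∀ (V : Y.Opens), V = U → ∀ (W : CommRingCat.{u}) (m : Γ(X, f ⁻¹ᵁ V) ⟶ W), IsIso m →
      (f.app V ≫ m).hom.IsIntegral → (f.app U).hom.IsIntegral := by
    rintro V rfl W m _ h
    rwa [CommRingCat.hom_comp, RingHom.isIntegral_respectsIso.cancel_right_isIso] at h
  have h := isIntegral_appTop_of_universallyClosed (f ∣_ U)
  rw [morphismRestrict_appTop] at h
  exact key _ U.ι_image_top _ _ inferInstance h

/-- The first map of the Stein factorisation is an isomorphism on sections over preimages of affines. -/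
theorem bijective_toNormalization_app_preimage (U : Y.affineOpens) :
    Function.Bijective (f.toNormalization.app (f.fromNormalization ⁻¹ᵁ U.1)) := by
  let := (f.app U.1).hom.toAlgebra
  rw [f.toNormalization_app_preimage U]
  have h1 : Function.Bijective (integralClosure ↑Γ(Y, ↑U) ↑Γ(X, f ⁻¹ᵁ ↑U)).val :=
    ⟨Subtype.val_injective, fun x => ⟨⟨x, isIntegral_app_of_universallyClosed f U.2 x⟩, rfl⟩⟩
  simp only [CommRingCat.hom_comp]
  exact ((ConcreteCategory.bijective_of_isIso (X.presheaf.map (eqToHom _).op)).comp h1).comp
    (ConcreteCategory.bijective_of_isIso (f.normalizationObjIso U.2).hom)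

/-- The first map of the Stein factorisation satisfies `O_{Y'} = f'_* O_X`. -/
theorem isIso_toNormalization_app (V : f.normalization.Opens) :
    IsIso (f.toNormalization.app V) := by
  let g := f.toNormalization
  let φ : f.normalization.sheaf ⟶ (TopCat.Sheaf.pushforward CommRingCat g.base).obj X.sheaf :=
    ⟨g.c⟩
  let B : (Σ U : Y.affineOpens, Γ(f.normalization, f.fromNormalization ⁻¹ᵁ U.1)) →
    f.normalization.Opens := fun p => f.normalization.basicOpen p.2
  have hB : Opens.IsBasis (Set.range B) := by
    rw [Opens.isBasis_iff_nbhd]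
    intro W z hz
    obtain ⟨_, ⟨U, hU, rfl⟩, hzU, -⟩ := Y.isBasis_affineOpens.exists_subset_of_mem_open
      (Set.mem_univ (f.fromNormalization z)) isOpen_univ
    obtain ⟨r, hr, hzr⟩ := (hU.preimage f.fromNormalization).exists_basicOpen_le ⟨z, hz⟩ hzU
    exact ⟨_, ⟨⟨⟨U, hU⟩, r⟩, rfl⟩, hzr, hr⟩
  have hφ : IsIso φ := TopCat.Sheaf.isIso_iff_isIso_basis (B := B) hB fun ⟨U, r⟩ => by
    refine (ConcreteCategory.isIso_iff_bijective _).2 ?_
    show Function.Bijective (g.app (f.normalization.basicOpen r))
    let W := f.fromNormalization ⁻¹ᵁ U.1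
    have hW : IsAffineOpen W := U.2.preimage _
    let r' := g.app W r
    have hb := bijective_toNormalization_app_preimage f U
    have hpre : g ⁻¹ᵁ f.normalization.basicOpen r = X.basicOpen r' := Scheme.preimage_basicOpen g r
    have hWX : g ⁻¹ᵁ W = f ⁻¹ᵁ U.1 := by
      rw [← Scheme.Hom.comp_preimage, f.toNormalization_fromNormalization]
    have hc : IsCompact (g ⁻¹ᵁ W).1 := by
      rw [hWX]; exact f.isCompact_preimage U.2.isCompact
    have hs : IsQuasiSeparated (g ⁻¹ᵁ W).1 := by
      rw [hWX]; exact f.isQuasiSeparated_preimage U.2.isQuasiSeparated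
    have l1 := hW.isLocalization_basicOpen r
    have l2 := isLocalization_basicOpen_of_qcqs hc hs r'
    let e : Γ(f.normalization, W) ≃+* Γ(X, g ⁻¹ᵁ W) := RingEquiv.ofBijective (g.app W).hom hb
    have H : (Submonoid.powers r).map e.toMonoidHom = Submonoid.powers r' :=
      Submonoid.map_powers e.toMonoidHom r
    let E : Γ(f.normalization, f.normalization.basicOpen r) ≃+* Γ(X, X.basicOpen r') :=
      IsLocalization.ringEquivOfRingEquiv (M := Submonoid.powers r) (T := Submonoid.powers r')
        _ _ e H
    have hE : ((X.presheaf.map (eqToHom hpre.symm).op).hom.comp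
        (g.app (f.normalization.basicOpen r)).hom) = E.toRingHom := by
      apply IsLocalization.ringHom_ext (Submonoid.powers r)
      ext a
      simp only [RingHom.comp_apply, RingEquiv.toRingHom_eq_coe, RingEquiv.coe_toRingHom, E,
        IsLocalization.ringEquivOfRingEquiv_eq]
      change (X.presheaf.map _) (g.app _ (f.normalization.presheaf.map (homOfLE _).op a)) =
        X.presheaf.map (homOfLE _).op (g.app W a)
      have hn : g.app (f.normalization.basicOpen r)
            (f.normalization.presheaf.map (homOfLE (f.normalization.basicOpen_le r)).op a) =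
          X.presheaf.map ((Opens.map g.base).map (homOfLE (f.normalization.basicOpen_le r))).op
            (g.app W a) :=
        congr($(g.naturality (homOfLE (f.normalization.basicOpen_le r)).op) a)
      refine Eq.trans (congrArg (X.presheaf.map (eqToHom hpre.symm).op) hn) ?_
      rw [← CommRingCat.comp_apply, ← X.presheaf.map_comp]
      rfl
    have : Function.Bijective ((X.presheaf.map (eqToHom hpre.symm).op).hom.comp
        (g.app (f.normalization.basicOpen r)).hom) := hE ▸ E.bijective
    exact (Function.Bijective.of_comp_iff'
      (ConcreteCategory.bijective_of_isIso (X.presheaf.map (eqToHom hpre.symm).op)) _).mp this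
  exact inferInstanceAs (IsIso (((sheafToPresheaf _ _).map φ).app (op V)))

end Groth.Agent.FlatMorStein
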