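import Groth.Agent.Unram17Lib.LocalLift
import Groth.Agent.CAlgH.AdicSmoothLift
import Groth.Agent.CommAlg6.AdicSmoothDiscrete
import Groth.Agent.CommAlg6.ClosedPoints
import Groth.Agent.FlatMor12.ThickFinite
import Groth.Agent.S4537
import Mathlib.AlgebraicGeometry.Morphisms.Smooth
import Mathlib.AlgebraicGeometry.ResidueField
import Mathlib.AlgebraicGeometry.Noetherian
import Mathlib.RingTheory.Artinian.Ring

/-!
# Smoothness and lifting along small extensions
-/

set_option autoImplicit false
set_option backward.isDefEq.respectTransparency false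

universe u

open AlgebraicGeometry CategoryTheory IsLocalRing

namespace Groth.Agent.FlatMorStein

variable {X S : Scheme.{u}} (f : X ⟶ S)

theorem locallyOfFiniteType_of_closed_point [LocallyOfFiniteType f] {x : X}
    (hx : IsClosed ({x} : Set X)) {V : S.Opens} (hV : IsAffineOpen V) (hxV : f x ∈ V) :
    ((IsLocalRing.residue (X.presheaf.stalk x)).comp
      ((f.stalkMap x).hom.comp (S.presheaf.germ V (f x) hxV).hom)).FiniteType := by
  have : IsClosedImmersion (X.fromSpecResidueField x) :=
    IsClosedImmersion.of_isPreimmersion _ (by rw [Scheme.range_fromSpecResidueField]; exact hx)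
  let θ : Γ(S, V) ⟶ X.residueField x := S.presheaf.germ V (f x) hxV ≫ f.stalkMap x ≫ X.residue x
  have e : Spec.map θ ≫ hV.fromSpec = X.fromSpecResidueField x ≫ f := by
    rw [Spec.map_comp, Spec.map_comp, Category.assoc, Category.assoc,
      show Spec.map (S.presheaf.germ V (f x) hxV) ≫ hV.fromSpec = S.fromSpecStalk (f x) from
        hV.fromSpecStalk_eq_fromSpecStalk hxV,
      Scheme.SpecMap_stalkMap_fromSpecStalk]
    rfl
  have : LocallyOfFiniteType (Spec.map θ ≫ hV.fromSpec) := by rw [e]; infer_instance
  have := locallyOfFiniteType_of_comp (Spec.map θ) hV.fromSpec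
  exact (HasRingHomProperty.Spec_iff (P := @LocallyOfFiniteType)).1 this

/-- Smoothness at a closed point from lifting along small extensions. -/
theorem formallySmooth_stalkMap_of_small [IsLocallyNoetherian S] [LocallyOfFiniteType f]
    (H : ∀ (B B' : Type u) [CommRing B] [CommRing B'] [IsArtinianRing B] [IsArtinianRing B'] [IsLocalRing B] [IsLocalRing B']
      (φ : B' →+* B) (ε : B'), Function.Surjective φ → RingHom.ker φ = Ideal.span {ε} → (∀ m ∈ maximalIdeal B', ε * m = 0) →
      ∀ (α : Spec (CommRingCat.of B) ⟶ X) (β : Spec (CommRingCat.of B') ⟶ S), LocallyOfFiniteType β →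
        Spec.map (CommRingCat.ofHom φ) ≫ β = α ≫ f →
        ∃ γ : Spec (CommRingCat.of B') ⟶ X, Spec.map (CommRingCat.ofHom φ) ≫ γ = α ∧ γ ≫ f = β)
    (x : X) (hx : IsClosed ({x} : Set X)) : (f.stalkMap x).hom.FormallySmooth := by
  have : IsLocallyNoetherian X := LocallyOfFiniteType.isLocallyNoetherian f
  let R := S.presheaf.stalk (f x)
  let T := X.presheaf.stalk x
  let instAlg : Algebra R T := (f.stalkMap x).hom.toAlgebra
  have : IsLocalHom (algebraMap R T) := (inferInstance : IsLocalHom (f.stalkMap x).hom)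
  have : Algebra.EssFiniteType R T :=
    RingHom.essFiniteType_algebraMap.1 (LocallyOfFiniteType.stalkMap f x)
  have hadic : CAlgX.IsAdicFormallySmooth R T (maximalIdeal T) := by
    refine CAlgH.AdicSmooth.of_lift_small fun A _ _ _ _ J hloc hJ2 hlen ψ hψ => ?_
    have hJne : J ≠ ⊤ := fun h => by
      rw [h, pow_two, Ideal.mul_top] at hJ2
      exact top_ne_bot hJ2
    haveI : Nontrivial (A ⧸ J) := Ideal.Quotient.nontrivial_iff.mpr hJne
    haveI : IsLocalRing (A ⧸ J) :=
      IsLocalRing.of_surjective' (Ideal.Quotient.mk J) Ideal.Quotient.mk_surjective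
    -- `J` is generated by one element killed by the maximal ideal
    have hsimple : IsSimpleModule A J := Module.length_eq_one_iff.mp hlen
    obtain ⟨ε, hεJ, hε0⟩ : ∃ ε ∈ J, ε ≠ 0 := by
      by_contra hcon
      push Not at hcon
      have : Subsingleton J := ⟨fun a b => Subtype.ext ((hcon a a.2).trans (hcon b b.2).symm)⟩
      exact absurd hlen (by simp [Module.length_eq_zero_iff.mpr this])
    have hJat : IsAtom J := isSimpleModule_iff_isAtom.mp hsimple
    have hspan : Ideal.span {ε} = J :=
      (hJat.le_iff.mp ((Ideal.span_singleton_le_iff_mem _).2 hεJ)).resolve_left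
        (by simpa using hε0)
    have hεm : ∀ m ∈ maximalIdeal A, ε * m = 0 := fun m hm => by
      by_contra h0
      have h1 : Ideal.span {ε * m} = J :=
        (hJat.le_iff.mp ((Ideal.span_singleton_le_iff_mem _).2 (J.mul_mem_right m hεJ))).resolve_left
          (by simpa using h0)
      obtain ⟨c, hc⟩ := Ideal.mem_span_singleton.1 (h1.symm ▸ hεJ : ε ∈ Ideal.span {ε * m})
      have hu : IsUnit (1 - m * c) :=
        IsLocalRing.isUnit_one_sub_self_of_mem_nonunits (m * c) (Ideal.mul_mem_right c _ hm)
      exact hε0 ((hu.mul_left_eq_zero (a := ε)).1 (by rw [mul_sub, mul_one, ← mul_assoc, ← hc, sub_self]))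
    let φ : A →+* A ⧸ J := Ideal.Quotient.mk J
    let α : Spec (CommRingCat.of (A ⧸ J)) ⟶ X :=
      Spec.map (CommRingCat.ofHom (ψ : T →+* A ⧸ J)) ≫ X.fromSpecStalk x
    let β : Spec (CommRingCat.of A) ⟶ S :=
      Spec.map (CommRingCat.ofHom (algebraMap R A)) ≫ S.fromSpecStalk (f x)
    have w : Spec.map (CommRingCat.ofHom φ) ≫ β = α ≫ f := by
      rw [Category.assoc, ← Scheme.SpecMap_stalkMap_fromSpecStalk, ← Category.assoc, ← Category.assoc,
        ← Spec.map_comp, ← Spec.map_comp]
      congr 2
      ext r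
      exact (ψ.commutes r).symm
    have hψloc : IsLocalHom (ψ : T →+* A ⧸ J) := IsLocalHom.of_surjective _ hψ
    have hβ : LocallyOfFiniteType β := by
      obtain ⟨_, ⟨V, hV, rfl⟩, hxV, -⟩ :=
        S.isBasis_affineOpens.exists_subset_of_mem_open (Set.mem_univ (f x)) isOpen_univ
      let g := (S.presheaf.germ V (f x) hxV).hom
      have hθ : ((algebraMap R A).comp g).FiniteType := by
        have hμ : Function.Surjective ((IsLocalRing.residue (A ⧸ J)).comp (ψ : T →+* A ⧸ J)) :=
          IsLocalRing.residue_surjective.comp hψ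
        let e : ResidueField T →+* ResidueField (A ⧸ J) := ResidueField.map (ψ : T →+* A ⧸ J)
        have he : Function.Surjective e := fun y => by
          obtain ⟨t, rfl⟩ := hμ y
          exact ⟨IsLocalRing.residue T t, rfl⟩
        refine FlatMor12.finiteType_of_nilpotent_fg _ ((IsLocalRing.residue (A ⧸ J)).comp φ)
          (IsLocalRing.residue_surjective.comp Ideal.Quotient.mk_surjective) ?_ ?_ ?_
        · have hle : RingHom.ker ((IsLocalRing.residue (A ⧸ J)).comp φ) ≤ maximalIdeal A :=
            IsLocalRing.le_maximalIdeal (RingHom.ker_ne_top _)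
          obtain ⟨N, hN⟩ : IsNilpotent (maximalIdeal A) :=
            (isArtinianRing_iff_isNilpotent_maximalIdeal A).mp inferInstance
          exact ⟨N, le_bot_iff.1 ((Ideal.pow_right_mono hle N).trans hN.le)⟩
        · exact IsNoetherian.noetherian _
        · have h1 := (locallyOfFiniteType_of_closed_point f hx hV hxV)
          have h2 : ((IsLocalRing.residue (A ⧸ J)).comp φ).comp ((algebraMap R A).comp g) =
              e.comp ((IsLocalRing.residue T).comp ((f.stalkMap x).hom.comp g)) := by
            refine RingHom.ext fun a => ?_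
            show IsLocalRing.residue (A ⧸ J) (φ (algebraMap R A (g a))) = _
            exact congrArg (IsLocalRing.residue (A ⧸ J)) (ψ.commutes (g a)).symm
          rw [h2]
          exact (RingHom.FiniteType.of_surjective e he).comp h1
      have e : β = Spec.map (CommRingCat.ofHom ((algebraMap R A).comp g)) ≫ hV.fromSpec := by
        show _ = Spec.map (S.presheaf.germ V (f x) hxV ≫ CommRingCat.ofHom (algebraMap R A)) ≫ hV.fromSpec
        rw [Spec.map_comp, Category.assoc,
          show Spec.map (S.presheaf.germ V (f x) hxV) ≫ hV.fromSpec = S.fromSpecStalk (f x) from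
            hV.fromSpecStalk_eq_fromSpecStalk hxV]
      have : LocallyOfFiniteType (Spec.map (CommRingCat.ofHom ((algebraMap R A).comp g))) :=
        (HasRingHomProperty.Spec_iff (P := @LocallyOfFiniteType)).2 hθ
      rw [e]; infer_instance
    obtain ⟨γ, hγ₁, hγ₂⟩ := H (A ⧸ J) A φ ε Ideal.Quotient.mk_surjective
      (by rw [Ideal.mk_ker, hspan]) hεm α β hβ w
    have hφloc : IsLocalHom φ := IsLocalHom.of_surjective φ Ideal.Quotient.mk_surjective
    have hcl : γ (closedPoint A) = x := by
      rw [← IsLocalRing.comap_closedPoint φ]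
      show γ (Spec.map (CommRingCat.ofHom φ) (closedPoint (A ⧸ J))) = x
      rw [← Scheme.Hom.comp_apply, hγ₁]
      show X.fromSpecStalk x (PrimeSpectrum.comap (ψ : T →+* A ⧸ J) (closedPoint (A ⧸ J))) = x
      rw [IsLocalRing.comap_closedPoint]
      exact Scheme.fromSpecStalk_closedPoint
    obtain ⟨a, -, ha⟩ := Unram17Lib.exists_stalk_hom γ x hcl
    have h₁ : f.stalkMap x ≫ a = CommRingCat.ofHom (algebraMap R A) := Unram17Lib.stalk_hom_ext (by
      rw [Spec.map_comp, Category.assoc, Scheme.SpecMap_stalkMap_fromSpecStalk, ← Category.assoc, ha, hγ₂])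
    have h₂ : a ≫ CommRingCat.ofHom φ = CommRingCat.ofHom (ψ : T →+* A ⧸ J) := Unram17Lib.stalk_hom_ext (by
      rw [Spec.map_comp, Category.assoc, ha, hγ₁])
    exact ⟨{ a.hom with commutes' := fun r => congr($(h₁) r) }, AlgHom.ext fun t => congr($(h₂) t)⟩
  have h4 : EGA41.IsFormallySmoothAdic R ⊥ T (maximalIdeal T) := (S4537.result _).1 hadic
  have h5 : EGA41.IsFormallySmoothAdic R (maximalIdeal R) T (maximalIdeal T) := fun C _ _ J hJ _ u hu =>
    h4 C J hJ ⟨1, by simp⟩ u hu
  exact CommAlg6.formallySmooth_of_isFormallySmoothAdic R T h5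

end Groth.Agent.FlatMorStein
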